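/-
A permutation group with quasisimple generalized Fitting subgroup containing a 3-cycle.
-/
import Cfsg.Prelude.Def_Local
import Cfsg.Agent.Lib.Cores.Components
import Cfsg.Agent.Lib.Known.AltAut
import Cfsg.Agent.Lib.InvolChar.ThreeInvolutions

set_option autoImplicit false

open Equiv Equiv.Perm Cfsg

namespace CfsgLib.LocalEven.SymOver

open CfsgLib.Known.AltAut

section Group

variable {G : Type*} [Group G] [Finite G]

/-- What is used about the image `L` of a quasisimple generalized Fitting subgroup of `H`. -/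
structure LayerSetup (H L : Subgroup G) : Prop where
  le : L ≤ H
  ne_bot : L ≠ ⊥
  perfect : Group.IsPerfect L
  normal : ∀ h ∈ H, ∀ l ∈ L, h * l * h⁻¹ ∈ L
  dich : ∀ N : Subgroup G, N ≤ H → (∀ h ∈ H, ∀ n ∈ N, h * n * h⁻¹ ∈ N) →
    L ≤ N ∨ ∀ n ∈ N, ∀ l ∈ L, n * l = l * n
  cent : ∀ g ∈ H, (∀ l ∈ L, g * l = l * g) → g ∈ L
  small : ∀ N : Subgroup G, N ≤ L → (∀ l ∈ L, ∀ n ∈ N, l * n * l⁻¹ ∈ N) →
    L ≤ N ∨ ∀ n ∈ N, ∀ l ∈ L, n * l = l * n

theorem dich_of_component {K : Subgroup G} (hK : IsComponent K) {N : Subgroup G} (hN : N.IsSubnormal) :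
    K ≤ N ∨ ∀ n ∈ N, ∀ l ∈ K, n * l = l * n := by
  refine (CfsgLib.Cores.component_le_or_commutator_eq_bot hK hN).imp_right fun h n hn l hl => ?_
  exact (Subgroup.commutator_eq_bot_iff_le_centralizer.1 h hl n hn)

theorem layerSetup_of_quasisimple (H : Subgroup G) (hF : IsQuasisimple (generalizedFittingSubgroup H)) :
    LayerSetup H ((generalizedFittingSubgroup H).map H.subtype) := by
  set L' := generalizedFittingSubgroup H
  haveI : L'.Normal := CfsgLib.Cores.generalizedFittingSubgroup_normal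
  have hcomp : IsComponent L' := ⟨Subgroup.Normal.isSubnormal inferInstance, hF⟩
  set L := L'.map H.subtype
  have hLH : L ≤ H := Subgroup.map_subtype_le L'
  haveI := hF.1
  have hp : Group.IsPerfect L :=
    Group.IsPerfect.ofSurjective
      (f := (L'.equivMapOfInjective H.subtype H.subtype_injective).toMonoidHom)
      (L'.equivMapOfInjective H.subtype H.subtype_injective).surjective
  refine ⟨hLH, ?_, hp, ?_, ?_, ?_, ?_⟩
  · intro h
    have := CfsgLib.Cores.isQuasisimple_nontrivial hF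
    rw [Subgroup.map_eq_bot_iff_of_injective _ H.subtype_injective] at h
    exact (Subgroup.nontrivial_iff_ne_bot _).1 this h
  · rintro h hh _ ⟨l, hl, rfl⟩
    exact ⟨⟨h, hh⟩ * l * ⟨h, hh⟩⁻¹, Subgroup.Normal.conj_mem inferInstance l hl _, rfl⟩
  · intro N hNH hN
    have hn : (N.subgroupOf H).Normal :=
      ⟨fun n hn g => hN g g.2 n hn⟩
    rcases dich_of_component hcomp hn.isSubnormal with h | h
    · left
      rintro _ ⟨l, hl, rfl⟩
      exact h hl
    · right
      rintro n hn' _ ⟨l, hl, rfl⟩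
      exact congrArg Subtype.val (h ⟨n, hNH hn'⟩ hn' l hl)
  · intro g hg hc
    refine ⟨⟨g, hg⟩, CfsgLib.Cores.centralizer_generalizedFittingSubgroup_le ?_, rfl⟩
    rw [Subgroup.mem_centralizer_iff]
    intro l hl
    exact Subtype.ext (hc l ⟨l, hl, rfl⟩).symm
  · intro N hNL hN
    have hn : (N.subgroupOf L).Normal := ⟨fun n hn g => hN g g.2 n hn⟩
    have htop : IsComponent (⊤ : Subgroup L) :=
      ⟨Subgroup.Normal.isSubnormal inferInstance, CfsgLib.Cores.isQuasisimple_of_equiv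
        ((L'.equivMapOfInjective H.subtype H.subtype_injective).trans Subgroup.topEquiv.symm) hF⟩
    rcases dich_of_component htop hn.isSubnormal with h | h
    · exact Or.inl fun l hl => h (Subgroup.mem_top ⟨l, hl⟩)
    · exact Or.inr fun n hn' l hl => congrArg Subtype.val (h ⟨n, hNL hn'⟩ hn' ⟨l, hl⟩ trivial)

variable {H L : Subgroup G}

/-- An abelian normal subgroup of `H` is centralised by `L`. -/
theorem LayerSetup.abelian_central (S : LayerSetup H L) {N : Subgroup G} (hN : N ≤ H)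
    (hn : ∀ h ∈ H, ∀ n ∈ N, h * n * h⁻¹ ∈ N) (hab : ∀ x ∈ N, ∀ y ∈ N, x * y = y * x) :
    ∀ n ∈ N, ∀ l ∈ L, n * l = l * n := by
  refine (S.dich N hN hn).resolve_left fun hle => S.ne_bot ?_
  haveI := S.perfect
  haveI : IsMulCommutative L := ⟨⟨fun a b => Subtype.ext (hab _ (hle a.2) _ (hle b.2))⟩⟩
  exact Subgroup.eq_bot_iff_forall _ |>.2 fun l hl => congrArg Subtype.val
    ((Group.IsPerfect.subsingleton_of_isMulCommutative (G := L)).elim ⟨l, hl⟩ 1)

/-- A homomorphism of `L` to a solvable group is trivial. -/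
theorem LayerSetup.hom_trivial (S : LayerSetup H L) {Q : Type*} [Group Q] (hQ : Group.IsSolvable Q)
    (φ : L →* Q) (x : L) : φ x = 1 := by
  haveI := S.perfect
  haveI : Group.IsPerfect φ.range := Group.IsPerfect.ofSurjective φ.rangeRestrict_surjective
  haveI := hQ
  haveI : Group.IsSolvable φ.range := inferInstance
  by_contra h
  haveI : Nontrivial φ.range := ⟨⟨⟨φ x, x, rfl⟩, 1, fun e => h (congrArg Subtype.val e)⟩⟩
  exact Group.IsPerfect.not_isSolvable φ.range inferInstance

end Group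

variable {α : Type*} [Fintype α] [DecidableEq α] {H L : Subgroup (Perm α)}

/-- An invariant set of at most four points is fixed pointwise. -/
theorem LayerSetup.fixes_small (S : LayerSetup H L) {s : Finset α} (hs : s.card ≤ 4)
    (hinv : ∀ l ∈ L, ∀ x, l x ∈ s ↔ x ∈ s) {l : Perm α} (hl : l ∈ L) {x : α} (hx : x ∈ s) :
    l x = x := by
  let φ : L →* Perm {x // x ∈ s} :=
    { toFun := fun g => (g : Perm α).subtypePerm (fun y => hinv _ g.2 y)
      map_one' := rfl
      map_mul' := fun _ _ => rfl }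
  have := S.hom_trivial (CfsgLib.InvolChar.ThreeInvolutions.isSolvable_perm (by simpa using hs)) φ ⟨l, hl⟩
  exact congrArg Subtype.val (Equiv.congr_fun this ⟨x, hx⟩)

/-- The alternating group on a set of points. -/
def altOn (K : Finset α) : Subgroup (Perm α) where
  carrier := {σ | sign σ = 1 ∧ ∀ x, x ∉ K → σ x = x}
  one_mem' := ⟨map_one _, fun _ _ => rfl⟩
  mul_mem' := fun {a b} ha hb => ⟨by rw [map_mul, ha.1, hb.1, one_mul],
    fun x hx => by rw [Perm.mul_apply, hb.2 x hx, ha.2 x hx]⟩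
  inv_mem' := fun {a} ha => ⟨by rw [map_inv, ha.1, inv_one],
    fun x hx => Perm.inv_eq_iff_eq.2 (ha.2 x hx).symm⟩

theorem ofSubtype_mem_altOn {K : Finset α} (σ : alternatingGroup {x // x ∈ K}) :
    ofSubtype (σ : Perm {x // x ∈ K}) ∈ altOn K :=
  ⟨by rw [sign_ofSubtype]; exact σ.2, fun _ hx => ofSubtype_apply_of_not_mem _ hx⟩

/-- `altOn K` is the alternating group of `K`. -/
noncomputable def altOnEquiv (K : Finset α) : alternatingGroup {x // x ∈ K} ≃* altOn K :=
  MulEquiv.ofBijective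
    ({ toFun := fun σ => ⟨ofSubtype (σ : Perm {x // x ∈ K}), ofSubtype_mem_altOn σ⟩
       map_one' := Subtype.ext (map_one _)
       map_mul' := fun a b => Subtype.ext (map_mul _ _ _) } :
      alternatingGroup {x // x ∈ K} →* altOn K)
    ⟨fun a b h => Subtype.ext (ofSubtype_injective (congrArg Subtype.val h)), fun s => by
      obtain ⟨s, hs, hK⟩ := s
      have hiff : ∀ x, s x ∈ K ↔ x ∈ K := fun x => by
        refine ⟨fun h => ?_, fun h => ?_⟩
        · by_contra hx
          exact hx (hK x hx ▸ h)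
        · by_contra hx
          exact hx (by rw [s.injective (hK _ hx)]; exact h)
      have he : ofSubtype (s.subtypePerm hiff) = s :=
        ofSubtype_subtypePerm _ fun x hx => by_contra fun h => hx (hK x h)
      refine ⟨⟨s.subtypePerm hiff, ?_⟩, Subtype.ext he⟩
      rw [mem_alternatingGroup, ← sign_ofSubtype, he, hs]⟩

theorem altOn_le {K : Finset α}
    (h : ∀ a ∈ K, ∀ b ∈ K, ∀ c ∈ K, a ≠ b → a ≠ c → b ≠ c → cyc a b c ∈ H) : altOn K ≤ H := by
  intro σ hσ
  obtain ⟨τ, hτ⟩ := (altOnEquiv K).surjective ⟨σ, hσ⟩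
  have hle : alternatingGroup {x // x ∈ K} ≤ H.comap (ofSubtype (p := fun x => x ∈ K)) := by
    rw [← closure_three_cycles_eq_alternating, Subgroup.closure_le]
    intro t ht
    obtain ⟨p, hp⟩ : ∃ p, t p ≠ p := by
      by_contra hc
      push Not at hc
      exact (ht : t.IsThreeCycle).isCycle.ne_one (Perm.ext hc)
    obtain ⟨he, -, hp2⟩ := eq_cyc ht hp
    rw [SetLike.mem_coe, Subgroup.mem_comap, he, cyc, map_mul, ofSubtype_swap_eq, ofSubtype_swap_eq]
    exact h _ p.2 _ (t p).2 _ (t (t p)).2 (fun e => hp (Subtype.ext e).symm)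
      (fun e => hp2 (Subtype.ext e).symm) (fun e => hp (t.injective (Subtype.ext e).symm))
  have := hle τ.2
  rw [Subgroup.mem_comap] at this
  have e : ofSubtype (τ : Perm {x // x ∈ K}) = σ := congrArg Subtype.val hτ
  rwa [e] at this

theorem cyc_mem_altOn {K : Finset α} {a b c : α} (ha : a ∈ K) (hb : b ∈ K) (hc : c ∈ K) (hab : a ≠ b)
    (hac : a ≠ c) (hbc : b ≠ c) : cyc a b c ∈ altOn K :=
  ⟨mem_alternatingGroup.1 (isThreeCycle_cyc hab hac hbc).mem_alternatingGroup,
    fun x hx => cyc_other (fun e : x = a => hx (e ▸ ha)) (fun e : x = b => hx (e ▸ hb))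
      (fun e : x = c => hx (e ▸ hc))⟩

/-- Two points lying in a common 3-cycle of `H`. -/
def Linked (H : Subgroup (Perm α)) (a b : α) : Prop :=
  a ≠ b ∧ ∃ x, x ≠ a ∧ x ≠ b ∧ cyc a b x ∈ H

theorem Linked.symm {a b : α} (h : Linked H a b) : Linked H b a := by
  obtain ⟨hab, x, hxa, hxb, hx⟩ := h
  refine ⟨hab.symm, x, hxb, hxa, ?_⟩
  rw [← cyc_inv hab hxa.symm hxb.symm]
  exact inv_mem hx

theorem linked_of_moved {t : Perm α} (htH : t ∈ H) (ht : t.IsThreeCycle) {a b : α} (hab : a ≠ b)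
    (ha : t a ≠ a) (hb : t b ≠ b) : Linked H a b := by
  obtain ⟨he, h3, h2⟩ := eq_cyc ht ha
  set c := t a
  set d := t c
  have hcd : c ≠ d := fun e => ha (t.injective e).symm
  rw [he] at htH
  have hb' : b = c ∨ b = d := by
    by_contra hne
    push Not at hne
    exact hb (by rw [he]; exact cyc_other hab.symm hne.1 hne.2)
  rcases hb' with rfl | rfl
  · exact ⟨hab, d, h2, hcd.symm, htH⟩
  · refine ⟨hab, c, ha, hcd, ?_⟩
    rw [cyc_rot hab ha.symm hcd.symm, cyc_rot hcd.symm hab.symm ha, ← cyc_inv ha.symm h2.symm hcd] at *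
    exact inv_mem htH

theorem cyc_mem_of_linked {a b y : α} (hl : Linked H a b) (hl' : Linked H b y) (hay : a ≠ y) :
    cyc a b y ∈ H := by
  obtain ⟨hab, x, hxa, hxb, ht⟩ := hl
  obtain ⟨hby, z, hzb, hzy, hs⟩ := hl'
  by_cases hyx : y = x
  · rw [hyx]; exact ht
  by_cases hza : z = a
  · subst hza
    rw [cyc_rot hab hay hby]
    exact hs
  by_cases hzx : z = x
  · subst hzx
    have h := mul_mem (mul_mem (inv_mem ht) hs) (inv_mem (inv_mem ht))
    rw [cyc_conj, cyc_inv hab hxa.symm hxb.symm, cyc_a hab.symm hxb.symm,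
      cyc_other hby.symm hay.symm hyx, cyc_c] at h
    rw [cyc_rot hab hay hby, cyc_rot hby hab.symm hay.symm, ← cyc_inv hay hab hby.symm]
    exact inv_mem h
  have hu := mul_mem (mul_mem hs ht) (inv_mem hs)
  rw [cyc_conj, cyc_other hab hay (Ne.symm hza), cyc_a hby hzb.symm,
    cyc_other hxb (Ne.symm hyx) (Ne.symm hzx)] at hu
  have h := mul_mem (mul_mem ht hu) (inv_mem ht)
  rw [cyc_conj, cyc_a hab hxa.symm, cyc_other hay.symm hby.symm hyx, cyc_c] at h
  rw [cyc_rot hab hay hby]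
  exact h

theorem Linked.trans {a b y : α} (h : Linked H a b) (h' : Linked H b y) (hay : a ≠ y) : Linked H a y := by
  have ht := cyc_mem_of_linked h h' hay
  have hab := h.1
  have hby := h'.1
  exact linked_of_moved ht (isThreeCycle_cyc hab hay hby) hay
    (by rw [cyc_a hab hay]; exact hab.symm) (by rw [cyc_c]; exact hay)

/-- **Structure**: if `H` contains a 3-cycle, then `L` is the alternating group on an invariant set of
points, and only the identity of `H` fixes this set pointwise. -/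
theorem exists_altOn (S : LayerSetup H L) (h3 : ∃ t ∈ H, t.IsThreeCycle) :
    ∃ K : Finset α, 5 ≤ K.card ∧ L = altOn K ∧ (∀ h ∈ H, ∀ x ∈ K, h x ∈ K) ∧
      (∀ g ∈ H, (∀ x ∈ K, g x = x) → g = 1) := by
  classical
  obtain ⟨t₀, ht₀, ht₀3⟩ := h3
  set D := Subgroup.closure {t : Perm α | t ∈ H ∧ t.IsThreeCycle}
  have hDH : D ≤ H := (Subgroup.closure_le _).2 fun t ht => ht.1
  have hDn : ∀ h ∈ H, ∀ n ∈ D, h * n * h⁻¹ ∈ D := by
    intro h hh n hn
    have : D ≤ D.comap (MulAut.conj h).toMonoidHom := by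
      refine (Subgroup.closure_le _).2 fun t ht => ?_
      refine Subgroup.subset_closure ⟨mul_mem (mul_mem hh ht.1) (inv_mem hh), ?_⟩
      show (h * t * h⁻¹).IsThreeCycle
      rw [IsThreeCycle, cycleType_conj]
      exact ht.2
    exact this hn
  have hLD : L ≤ D := by
    refine (S.dich D hDH hDn).resolve_right fun hc => ?_
    have ht₀D : t₀ ∈ D := Subgroup.subset_closure ⟨ht₀, ht₀3⟩
    have ht₀L : t₀ ∈ L := S.cent t₀ ht₀ (hc t₀ ht₀D)
    have hinv : ∀ l ∈ L, ∀ x, l x ∈ t₀.support ↔ x ∈ t₀.support := by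
      intro l hl x
      have e : t₀ (l x) = l (t₀ x) := Equiv.congr_fun (hc t₀ ht₀D l hl) x
      rw [mem_support, mem_support, e, l.injective.ne_iff]
    obtain ⟨x, hx⟩ : ∃ x, x ∈ t₀.support := Finset.card_pos.1 (by rw [ht₀3.card_support]; norm_num)
    exact mem_support.1 hx (S.fixes_small (by rw [ht₀3.card_support]; norm_num) hinv ht₀L hx)
  obtain ⟨l₀, hl₀, hl₀1⟩ := (Subgroup.bot_or_exists_ne_one L).resolve_left S.ne_bot
  obtain ⟨a, ha⟩ : ∃ a, l₀ a ≠ a := by
    by_contra hc
    push Not at hc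
    exact hl₀1 (Perm.ext hc)
  let K : Finset α := Finset.univ.filter fun x => x = a ∨ Linked H a x
  have hK : ∀ x, x ∈ K ↔ x = a ∨ Linked H a x := fun x => by simp [K]
  have haK : a ∈ K := (hK a).2 (Or.inl rfl)
  have hlink : ∀ x ∈ K, ∀ y ∈ K, x ≠ y → Linked H x y := by
    intro x hx y hy hxy
    rcases (hK x).1 hx with rfl | hx' <;> rcases (hK y).1 hy with rfl | hy'
    · exact absurd rfl hxy
    · exact hy'
    · exact hx'.symm
    · exact hx'.symm.trans hy' hxy
  have hAH : altOn K ≤ H := altOn_le fun x hx y hy z hz hxy hxz hyz =>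
    cyc_mem_of_linked (hlink x hx y hy hxy) (hlink y hy z hz hyz) hxz
  have hDK : ∀ d ∈ D, ∀ x, d x ∈ K ↔ x ∈ K := by
    intro d hd
    induction hd using Subgroup.closure_induction with
    | mem t ht =>
      intro x
      by_cases hx : t x = x
      · rw [hx]
      have hlk : Linked H x (t x) :=
        linked_of_moved ht.1 ht.2 (Ne.symm hx) hx fun e => hx (t.injective e)
      constructor
      · intro h
        rcases (hK _).1 h with h' | h'
        · exact (hK x).2 (Or.inr (h' ▸ hlk.symm))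
        · by_cases hxa : x = a
          · exact hxa ▸ haK
          · exact (hK x).2 (Or.inr (h'.trans hlk.symm (Ne.symm hxa)))
      · intro h
        rcases (hK _).1 h with h' | h'
        · exact (hK _).2 (Or.inr (h' ▸ hlk))
        · by_cases hxa : t x = a
          · exact hxa ▸ haK
          · exact (hK _).2 (Or.inr (h'.trans hlk (Ne.symm hxa)))
    | one => intro x; rfl
    | mul d e _ _ hd he => intro x; rw [Perm.mul_apply, hd, he]
    | inv d _ hd => intro x; rw [← hd (d⁻¹ x)]; simp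
  have hconjA : ∀ g : Perm α, (∀ x, g x ∈ K ↔ x ∈ K) → ∀ σ ∈ altOn K, g * σ * g⁻¹ ∈ altOn K := by
    intro g hg σ hσ
    refine ⟨by rw [map_mul, map_mul, hσ.1, map_inv, mul_one, mul_inv_cancel], fun x hx => ?_⟩
    rw [Perm.mul_apply, Perm.mul_apply, hσ.2 _ (fun h => hx (by simpa using (hg (g⁻¹ x)).2 h))]
    simp
  have h3K : 3 ≤ K.card := by
    obtain ⟨t, ⟨htH, ht3⟩, hta⟩ : ∃ t ∈ {t : Perm α | t ∈ H ∧ t.IsThreeCycle}, t a ≠ a := by
      by_contra hc
      push Not at hc
      have : D ≤ MulAction.stabilizer (Perm α) a := (Subgroup.closure_le _).2 fun t ht => hc t ht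
      exact ha (this (hLD hl₀))
    refine ht3.card_support ▸ Finset.card_le_card fun x hx => (hK x).2 ?_
    by_cases hxa : x = a
    · exact Or.inl hxa
    · exact Or.inr (linked_of_moved htH ht3 (Ne.symm hxa) hta (mem_support.1 hx))
  have hLA : L ≤ altOn K := by
    have hI : ∀ l ∈ L, ∀ n ∈ L ⊓ altOn K, l * n * l⁻¹ ∈ L ⊓ altOn K := fun l hl n hn =>
      Subgroup.mem_inf.2 ⟨mul_mem (mul_mem hl (Subgroup.mem_inf.1 hn).1) (inv_mem hl),
        hconjA l (hDK l (hLD hl)) n (Subgroup.mem_inf.1 hn).2⟩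
    rcases S.small _ inf_le_left hI with h | h
    · exact h.trans inf_le_right
    exfalso
    have hcomm : ⁅altOn K, L⁆ ≤ L ⊓ altOn K := by
      rw [Subgroup.commutator_le]
      intro s hs l hl
      refine Subgroup.mem_inf.2 ⟨?_, ?_⟩
      · rw [commutatorElement_def]
        exact mul_mem (S.normal s (hAH hs) l hl) (inv_mem hl)
      · rw [commutatorElement_def, mul_assoc s, mul_assoc s]
        exact mul_mem hs (hconjA l (hDK l (hLD hl)) _ (inv_mem hs))
    have hLc : ⁅altOn K, L⁆ ≤ Subgroup.centralizer (L : Set (Perm α)) := hcomm.trans fun n hn =>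
      Subgroup.mem_centralizer_iff.2 fun l hl => (h n hn l hl).symm
    have h1 : ⁅⁅altOn K, L⁆, L⁆ = ⊥ := Subgroup.commutator_eq_bot_iff_le_centralizer.2 hLc
    have h2 : ⁅⁅L, altOn K⁆, L⁆ = ⊥ := by rwa [Subgroup.commutator_comm L (altOn K)]
    have h3 : ⁅⁅L, L⁆, altOn K⁆ = ⊥ := Subgroup.commutator_commutator_eq_bot_of_rotate h2 h1
    rw [Subgroup.isPerfect_iff.1 S.perfect] at h3
    have hAc := Subgroup.commutator_eq_bot_iff_le_centralizer.1 h3
    rcases Nat.lt_or_ge K.card 4 with h4 | h4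
    · exact ha (S.fixes_small (by omega) (fun l hl => hDK l (hLD hl)) hl₀ haK)
    have hlaK : l₀ a ∈ K := (hDK l₀ (hLD hl₀) a).2 haK
    obtain ⟨b, hb, c, hc, hbc⟩ : ∃ b ∈ (K.erase a).erase (l₀ a), ∃ c ∈ (K.erase a).erase (l₀ a), b ≠ c := by
      refine Finset.one_lt_card.1 ?_
      rw [Finset.card_erase_of_mem (Finset.mem_erase.2 ⟨ha, hlaK⟩), Finset.card_erase_of_mem haK]
      omega
    simp only [Finset.mem_erase] at hb hc
    have ht := cyc_mem_altOn haK hb.2.2 hc.2.2 hb.2.1.symm hc.2.1.symm hbc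
    have e := Equiv.congr_fun (Subgroup.mem_centralizer_iff.1 (hAc hl₀) _ ht) a
    rw [Perm.mul_apply, Perm.mul_apply, cyc_a hb.2.1.symm hc.2.1.symm,
      cyc_other ha hb.1.symm hc.1.symm] at e
    exact hb.2.1 (l₀.injective e).symm
  have h5 : 5 ≤ K.card := by
    by_contra hlt
    exact ha (S.fixes_small (by omega) (fun l hl => hDK l (hLD hl)) hl₀ haK)
  have hLeq : L = altOn K := by
    haveI : IsSimpleGroup (alternatingGroup {x // x ∈ K}) := alternatingGroup.isSimpleGroup (by simpa using h5)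
    haveI : Nontrivial (altOn K) := (altOnEquiv K).toEquiv.symm.nontrivial
    haveI : IsSimpleGroup (altOn K) :=
      IsSimpleGroup.isSimpleGroup_of_surjective (altOnEquiv K).toMonoidHom (altOnEquiv K).surjective
    have hn : (L.subgroupOf (altOn K)).Normal := ⟨fun l hl g => S.normal g (hAH g.2) l hl⟩
    rcases hn.eq_bot_or_eq_top with h | h
    · rw [Subgroup.subgroupOf_eq_bot, disjoint_iff, inf_eq_left.2 hLA] at h
      exact absurd h S.ne_bot
    · exact le_antisymm hLA (Subgroup.subgroupOf_eq_top.1 h)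
  refine ⟨K, h5, hLeq, ?_, ?_⟩
  · intro h hh x hx
    obtain ⟨y, hy, z, hz, hyz⟩ : ∃ y ∈ K.erase x, ∃ z ∈ K.erase x, y ≠ z := by
      refine Finset.one_lt_card.1 ?_
      rw [Finset.card_erase_of_mem hx]
      omega
    simp only [Finset.mem_erase] at hy hz
    have hσ : cyc x y z ∈ L := hLeq ▸ cyc_mem_altOn hx hy.2 hz.2 hy.1.symm hz.1.symm hyz
    have hσ' : h * cyc x y z * h⁻¹ ∈ altOn K := hLeq ▸ S.normal h hh _ hσ
    by_contra hhx
    have e := hσ'.2 _ hhx
    rw [cyc_conj, cyc_a (h.injective.ne hy.1.symm) (h.injective.ne hz.1.symm)] at e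
    exact hy.1 (h.injective e)
  · intro g hg hfix
    have hgL : g ∈ L := by
      refine S.cent g hg fun l hl => Perm.ext fun x => ?_
      rw [Perm.mul_apply, Perm.mul_apply]
      have hl' : l ∈ altOn K := hLeq ▸ hl
      have hlK := hDK l (hLD hl)
      by_cases hx : x ∈ K
      · rw [hfix x hx, hfix _ ((hlK x).2 hx)]
      · rw [hl'.2 x hx, hl'.2]
        intro hgx
        exact hx (g.injective (hfix _ hgx) ▸ hgx)
    have hgA : g ∈ altOn K := hLeq ▸ hgL
    refine Perm.ext fun x => ?_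
    by_cases hx : x ∈ K
    exacts [hfix x hx, hgA.2 x hx]

end CfsgLib.LocalEven.SymOver
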