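/-
A permutation group with quasisimple generalized Fitting subgroup containing the double
transpositions of a pairing contains a 3-cycle.
-/
import Cfsg.Agent.Lib.LocalEven.SymOvergroups.ThreeCycle
import Cfsg.Agent.Lib.Known.SylowTwoMax

set_option autoImplicit false

open Equiv Equiv.Perm Cfsg

namespace CfsgLib.LocalEven.SymOver

variable {α : Type*} [Fintype α] [DecidableEq α] {H L : Subgroup (Perm α)}

theorem LayerSetup.not_comm (S : LayerSetup H L) (h : ∀ x ∈ L, ∀ y ∈ L, x * y = y * x) : False := by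
  haveI := S.perfect
  haveI : IsMulCommutative L := ⟨⟨fun a b => Subtype.ext (h _ a.2 _ b.2)⟩⟩
  refine S.ne_bot ((Subgroup.eq_bot_iff_forall _).2 fun l hl => congrArg Subtype.val
    ((Group.IsPerfect.subsingleton_of_isMulCommutative (G := L)).elim ⟨l, hl⟩ 1))

/-- Data of a pairing of all points but at most one. -/
structure Pairing (H : Subgroup (Perm α)) (k : ℕ) (a : Fin k → Bool → α) : Prop where
  four : 4 ≤ k
  inj : ∀ i j b c, a i b = a j c → i = j ∧ b = c
  small : Fintype.card α ≤ 2 * k + 1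
  mem : ∀ i j, i ≠ j → swap (a i false) (a i true) * swap (a j false) (a j true) ∈ H

variable {k : ℕ} {a : Fin k → Bool → α}

/-- A union of pairs. -/
def pairsU (a : Fin k → Bool → α) (I : Finset (Fin k)) : Finset α := (I ×ˢ Finset.univ).image fun p => a p.1 p.2

theorem mem_pairsU {I : Finset (Fin k)} {y : α} : y ∈ pairsU a I ↔ ∃ i ∈ I, ∃ b, a i b = y := by
  simp only [pairsU, Finset.mem_image, Finset.mem_product, Finset.mem_univ, and_true, Prod.exists]
  exact ⟨fun ⟨i, b, hi, e⟩ => ⟨i, hi, b, e⟩, fun ⟨i, hi, b, e⟩ => ⟨i, b, hi, e⟩⟩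

/-- The kernel of the action on the pairs. -/
def kerSub (H : Subgroup (Perm α)) (a : Fin k → Bool → α) : Subgroup (Perm α) where
  carrier := {g | g ∈ H ∧ ∀ i, (pairsU a {i}).image g = pairsU a {i}}
  one_mem' := ⟨one_mem _, fun i => by simp⟩
  mul_mem' := fun {g h} hg hh => ⟨mul_mem hg.1 hh.1, fun i => by
    rw [Perm.coe_mul, ← Finset.image_image, hh.2, hg.2]⟩
  inv_mem' := fun {g} hg => ⟨inv_mem hg.1, fun i => by
    conv_lhs => rw [← hg.2 i]
    rw [Finset.image_image, ← Perm.coe_mul, inv_mul_cancel, Perm.coe_one, Finset.image_id]⟩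

namespace Pairing

variable (P : Pairing H k a)
include P

theorem card_pairsU (I : Finset (Fin k)) : (pairsU a I).card = 2 * I.card := by
  rw [pairsU, Finset.card_image_of_injective _ (fun p q h => Prod.ext (P.inj _ _ _ _ h).1 (P.inj _ _ _ _ h).2),
    Finset.card_product]
  simp [mul_comm]

theorem mem_pairsU_self {I : Finset (Fin k)} {i : Fin k} {b : Bool} : a i b ∈ pairsU a I ↔ i ∈ I := by
  rw [mem_pairsU]
  refine ⟨?_, fun h => ⟨i, h, b, rfl⟩⟩
  rintro ⟨j, hj, c, e⟩
  exact (P.inj _ _ _ _ e).1 ▸ hj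

theorem pairsU_inter (I J : Finset (Fin k)) : pairsU a I ∩ pairsU a J = pairsU a (I ∩ J) := by
  ext y
  rw [Finset.mem_inter, mem_pairsU, mem_pairsU, mem_pairsU]
  constructor
  · rintro ⟨⟨i, hi, b, rfl⟩, ⟨j, hj, c, e⟩⟩
    exact ⟨i, Finset.mem_inter.2 ⟨hi, (P.inj _ _ _ _ e).1 ▸ hj⟩, b, rfl⟩
  · rintro ⟨i, hi, b, rfl⟩
    exact ⟨⟨i, (Finset.mem_inter.1 hi).1, b, rfl⟩, ⟨i, (Finset.mem_inter.1 hi).2, b, rfl⟩⟩

/-- A permutation mapping unions of two pairs to unions of two pairs permutes the pairs. -/
theorem exists_pair_image {g : Perm α}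
    (h : ∀ I : Finset (Fin k), I.card = 2 → ∃ J : Finset (Fin k), J.card = 2 ∧
      (pairsU a I).image g = pairsU a J) (i : Fin k) :
    ∃ j, (pairsU a {i}).image g = pairsU a {j} := by
  have h4 := P.four
  obtain ⟨p, hp, q, hq, hpq⟩ : ∃ p ∈ Finset.univ.erase i, ∃ q ∈ Finset.univ.erase i, p ≠ q := by
    refine Finset.one_lt_card.1 ?_
    rw [Finset.card_erase_of_mem (Finset.mem_univ _), Finset.card_univ, Fintype.card_fin]
    omega
  simp only [Finset.mem_erase, Finset.mem_univ, and_true] at hp hq
  obtain ⟨J₁, -, hJ₁⟩ := h {i, p} (Finset.card_pair hp.symm)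
  obtain ⟨J₂, -, hJ₂⟩ := h {i, q} (Finset.card_pair hq.symm)
  have hi : ({i} : Finset (Fin k)) = {i, p} ∩ {i, q} := by
    ext z
    simp only [Finset.mem_singleton, Finset.mem_inter, Finset.mem_insert]
    constructor
    · intro hz; exact ⟨Or.inl hz, Or.inl hz⟩
    · rintro ⟨hz | hz, hz' | hz'⟩
      exacts [hz, hz, hz', absurd (hz.symm.trans hz') hpq]
  have himg : (pairsU a {i}).image g = pairsU a (J₁ ∩ J₂) := by
    rw [hi, ← P.pairsU_inter, Finset.image_inter _ _ g.injective, hJ₁, hJ₂, P.pairsU_inter]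
  have hc := congrArg Finset.card himg
  rw [Finset.card_image_of_injective _ g.injective, P.card_pairsU, P.card_pairsU, Finset.card_singleton] at hc
  obtain ⟨j, hj⟩ := Finset.card_eq_one.1 (show (J₁ ∩ J₂).card = 1 by omega)
  exact ⟨j, himg.trans (by rw [hj])⟩

/-- The two points of a pair go to the two points of a pair. -/
theorem exists_flip {g : Perm α} {i j : Fin k} (h : (pairsU a {i}).image g = pairsU a {j}) (b : Bool) :
    ∃ c, g (a i b) = a j c ∧ g (a i (!b)) = a j (!c) := by
  have hm : ∀ b, ∃ c, g (a i b) = a j c := by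
    intro b
    have : g (a i b) ∈ pairsU a {j} :=
      h ▸ Finset.mem_image_of_mem _ (P.mem_pairsU_self.2 (Finset.mem_singleton_self i))
    obtain ⟨j', hj', c, e⟩ := mem_pairsU.1 this
    rw [Finset.mem_singleton] at hj'
    exact ⟨c, hj' ▸ e.symm⟩
  obtain ⟨c, hc⟩ := hm b
  obtain ⟨c', hc'⟩ := hm (!b)
  refine ⟨c, hc, ?_⟩
  have : c' ≠ c := by
    rintro rfl
    have := (P.inj _ _ _ _ (g.injective (hc'.trans hc.symm))).2
    cases b <;> simp at this
  have e : c' = !c := by cases c <;> cases c' <;> simp_all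
  rw [hc', e]

theorem eq_of_outside {y z : α} (hy : y ∉ pairsU a Finset.univ) (hz : z ∉ pairsU a Finset.univ) : y = z := by
  have h1 : ((pairsU a Finset.univ)ᶜ).card ≤ 1 := by
    rw [Finset.card_compl, P.card_pairsU, Finset.card_univ, Fintype.card_fin]
    have := P.small
    omega
  exact Finset.card_le_one.1 h1 y (Finset.mem_compl.2 hy) z (Finset.mem_compl.2 hz)

theorem fixed_outside {g : Perm α} (h : ∀ y ∈ pairsU a Finset.univ, g y ∈ pairsU a Finset.univ) {y : α}
    (hy : y ∉ pairsU a Finset.univ) : g y = y := by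
  refine P.eq_of_outside ?_ hy
  intro hgy
  have himg : (pairsU a Finset.univ).image g = pairsU a Finset.univ :=
    Finset.eq_of_subset_of_card_le (Finset.image_subset_iff.2 h)
      (Finset.card_image_of_injective _ g.injective).ge
  rw [← himg, Finset.mem_image] at hgy
  obtain ⟨z, hz, e⟩ := hgy
  exact hy (g.injective e ▸ hz)

/-- A permutation fixing every pair as a set commutes with any other one. -/
theorem comm_of_fix_pairs {g h : Perm α} (hg : ∀ i, (pairsU a {i}).image g = pairsU a {i})
    (hh : ∀ i, (pairsU a {i}).image h = pairsU a {i}) : g * h = h * g := by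
  refine Perm.ext fun y => ?_
  rw [Perm.mul_apply, Perm.mul_apply]
  by_cases hy : y ∈ pairsU a Finset.univ
  · obtain ⟨i, -, b, rfl⟩ := mem_pairsU.1 hy
    obtain ⟨c, hc, hc'⟩ := P.exists_flip (hg i) b
    obtain ⟨d, hd, hd'⟩ := P.exists_flip (hh i) b
    rcases Bool.eq_false_or_eq_true (b == c) with e | e <;>
      rcases Bool.eq_false_or_eq_true (b == d) with e' | e' <;>
      cases b <;> cases c <;> cases d <;> simp_all
  · have hmem : ∀ u : Perm α, (∀ i, (pairsU a {i}).image u = pairsU a {i}) →
        ∀ z ∈ pairsU a Finset.univ, u z ∈ pairsU a Finset.univ := by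
      intro u hu z hz
      obtain ⟨i, -, b, rfl⟩ := mem_pairsU.1 hz
      obtain ⟨c, hc, -⟩ := P.exists_flip (hu i) b
      rw [hc]
      exact P.mem_pairsU_self.2 (Finset.mem_univ i)
    rw [P.fixed_outside (hmem h hh) hy, P.fixed_outside (hmem g hg) hy, P.fixed_outside (hmem h hh) hy]

theorem dt_moved {i j : Fin k} (hij : i ≠ j) (y : α) :
    (swap (a i false) (a i true) * swap (a j false) (a j true)) y ≠ y ↔ y ∈ pairsU a {i, j} := by
  have hne : ∀ {p q : Fin k} {b c : Bool}, (p ≠ q ∨ b ≠ c) → a p b ≠ a q c := by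
    intro p q b c h e
    obtain ⟨h1, h2⟩ := P.inj _ _ _ _ e
    exact h.elim (fun h => h h1) (fun h => h h2)
  constructor
  · intro h
    by_contra hy
    refine h ?_
    have hn : ∀ p, p = i ∨ p = j → ∀ b, y ≠ a p b := fun p hp b e => hy (mem_pairsU.2 ⟨p, by simpa using hp, b, e.symm⟩)
    rw [Perm.mul_apply, swap_apply_of_ne_of_ne (hn j (Or.inr rfl) _) (hn j (Or.inr rfl) _),
      swap_apply_of_ne_of_ne (hn i (Or.inl rfl) _) (hn i (Or.inl rfl) _)]
  · intro hy
    obtain ⟨p, hp, b, rfl⟩ := mem_pairsU.1 hy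
    simp only [Finset.mem_insert, Finset.mem_singleton] at hp
    rcases hp with rfl | rfl
    · rw [Perm.mul_apply, swap_apply_of_ne_of_ne (hne (Or.inl hij)) (hne (Or.inl hij))]
      cases b
      · rw [swap_apply_left]; exact hne (Or.inr (by simp))
      · rw [swap_apply_right]; exact hne (Or.inr (by simp))
    · rw [Perm.mul_apply]
      cases b
      · rw [swap_apply_left, swap_apply_of_ne_of_ne (hne (Or.inl hij.symm)) (hne (Or.inl hij.symm))]
        exact hne (Or.inr (by simp))
      · rw [swap_apply_right, swap_apply_of_ne_of_ne (hne (Or.inl hij.symm)) (hne (Or.inl hij.symm))]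
        exact hne (Or.inr (by simp))

theorem dt_apply {i j : Fin k} (hij : i ≠ j) (p : Fin k) (b : Bool) :
    (swap (a i false) (a i true) * swap (a j false) (a j true)) (a p b) =
      a p (if p = i ∨ p = j then !b else b) := by
  have hne : ∀ {p q : Fin k} {b c : Bool}, p ≠ q → a p b ≠ a q c := fun h e => h (P.inj _ _ _ _ e).1
  rw [Perm.mul_apply]
  by_cases hpj : p = j
  · subst hpj
    rw [if_pos (Or.inr rfl)]
    cases b
    · rw [swap_apply_left, swap_apply_of_ne_of_ne (hne hij.symm) (hne hij.symm)]; rfl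
    · rw [swap_apply_right, swap_apply_of_ne_of_ne (hne hij.symm) (hne hij.symm)]; rfl
  · rw [swap_apply_of_ne_of_ne (hne hpj) (hne hpj)]
    by_cases hpi : p = i
    · subst hpi
      rw [if_pos (Or.inl rfl)]
      cases b
      · rw [swap_apply_left]; rfl
      · rw [swap_apply_right]; rfl
    · rw [swap_apply_of_ne_of_ne (hne hpi) (hne hpi), if_neg (not_or.2 ⟨hpi, hpj⟩)]

theorem dt_image_pair {i j : Fin k} (hij : i ≠ j) (p : Fin k) :
    (pairsU a {p}).image ⇑(swap (a i false) (a i true) * swap (a j false) (a j true)) = pairsU a {p} := by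
  refine Finset.eq_of_subset_of_card_le (Finset.image_subset_iff.2 fun y hy => ?_)
    (Finset.card_image_of_injective _ (Equiv.injective _)).ge
  obtain ⟨q, hq, b, rfl⟩ := mem_pairsU.1 hy
  rw [P.dt_apply hij]
  exact P.mem_pairsU_self.2 hq

/-- The shapes of supports of involutions of `H` moving four points, when there is no 3-cycle. -/
theorem quad_cases (hno : ¬ ∃ t ∈ H, IsThreeCycle t) {g : Perm α} (hg : g ∈ H) {Q : Finset α}
    (hQ : Q.card = 4) (hQg : ∀ y, g y ≠ y ↔ y ∈ Q) :
    (∃ I : Finset (Fin k), I.card = 2 ∧ Q = pairsU a I) ∨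
      (k = 4 ∧ Q ⊆ pairsU a Finset.univ ∧ ∀ i, (Q ∩ pairsU a {i}).card = 1) := by
  have hone : ∀ i j, i ≠ j → (Q ∩ pairsU a {i, j}).card ≠ 1 := by
    intro i j hij h1
    obtain ⟨y, hy⟩ := Finset.card_eq_one.1 h1
    have hy' : y ∈ Q ∩ pairsU a {i, j} := by rw [hy]; exact Finset.mem_singleton_self y
    rw [Finset.mem_inter] at hy'
    refine hno ⟨_, ?_, CfsgLib.Known.isThreeCycle_commutator ((hQg y).2 hy'.1)
      ((P.dt_moved hij y).2 hy'.2) fun x hx hx' => ?_⟩
    · exact mul_mem (mul_mem (mul_mem hg (P.mem i j hij)) (inv_mem hg)) (inv_mem (P.mem i j hij))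
    · have : x ∈ Q ∩ pairsU a {i, j} := Finset.mem_inter.2 ⟨(hQg x).1 hx, (P.dt_moved hij x).1 hx'⟩
      rwa [hy, Finset.mem_singleton] at this
  have hsum : ∀ I : Finset (Fin k), (Q ∩ pairsU a I).card = ∑ i ∈ I, (Q ∩ pairsU a {i}).card := by
    intro I
    rw [← Finset.card_biUnion]
    · congr 1
      ext y
      simp only [Finset.mem_inter, Finset.mem_biUnion, mem_pairsU, Finset.mem_singleton, exists_eq_left]
      exact ⟨fun ⟨hy, i, hi, b, e⟩ => ⟨i, hi, hy, b, e⟩, fun ⟨i, hi, hy, b, e⟩ => ⟨hy, i, hi, b, e⟩⟩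
    · intro p _ q _ hpq
      refine Finset.disjoint_left.2 fun y hy hy' => hpq ?_
      obtain ⟨p', hp', b, rfl⟩ := mem_pairsU.1 (Finset.mem_inter.1 hy).2
      rw [Finset.mem_singleton] at hp'
      have := P.mem_pairsU_self.1 (Finset.mem_inter.1 hy').2
      rw [Finset.mem_singleton] at this
      exact hp'.symm.trans this
  have h4 := P.four
  by_cases hex : ∃ i, (Q ∩ pairsU a {i}).card = 1
  · obtain ⟨i, hi⟩ := hex
    have hge : ∀ p, 1 ≤ (Q ∩ pairsU a {p}).card := by
      intro p
      by_cases hp : p = i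
      · rw [hp, hi]
      · have := hone i p (Ne.symm hp)
        rw [hsum, Finset.sum_pair (Ne.symm hp), hi] at this
        omega
    have hle : ∑ p, (Q ∩ pairsU a {p}).card ≤ 4 := by
      rw [← hsum, ← hQ]; exact Finset.card_le_card Finset.inter_subset_left
    have hlow : k ≤ ∑ p : Fin k, (Q ∩ pairsU a {p}).card := by
      calc k = ∑ _p : Fin k, 1 := by simp
        _ ≤ _ := Finset.sum_le_sum fun p _ => hge p
    refine Or.inr ⟨by omega, ?_, fun p => le_antisymm ?_ (hge p)⟩
    · intro y hy
      have he : Q ∩ pairsU a Finset.univ = Q :=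
        Finset.eq_of_subset_of_card_le Finset.inter_subset_left (by rw [hsum, hQ]; omega)
      rw [← he] at hy
      exact (Finset.mem_inter.1 hy).2
    · by_contra hlt
      have : k < ∑ p : Fin k, (Q ∩ pairsU a {p}).card := by
        calc k = ∑ _p : Fin k, 1 := by simp
          _ < _ := Finset.sum_lt_sum (fun p _ => hge p) ⟨p, Finset.mem_univ p, by omega⟩
      omega
  · push Not at hex
    set I := Finset.univ.filter fun i => pairsU a {i} ⊆ Q with hI
    have hIQ : pairsU a I ⊆ Q := by
      intro y hy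
      obtain ⟨i, hi, b, rfl⟩ := mem_pairsU.1 hy
      exact (Finset.mem_filter.1 hi).2 (P.mem_pairsU_self.2 (Finset.mem_singleton_self i))
    have hrest : (Q \ pairsU a I).card ≤ 1 := by
      refine Finset.card_le_one.2 fun y hy z hz => P.eq_of_outside ?_ ?_
      all_goals
        intro hm
        obtain ⟨i, -, b, e⟩ := mem_pairsU.1 hm
        subst e
        rename_i h
        first
          | (have hh := Finset.mem_sdiff.1 hy
             refine hh.2 (P.mem_pairsU_self.2 (Finset.mem_filter.2 ⟨Finset.mem_univ i, ?_⟩)))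
          | (have hh := Finset.mem_sdiff.1 hz
             refine hh.2 (P.mem_pairsU_self.2 (Finset.mem_filter.2 ⟨Finset.mem_univ i, ?_⟩)))
        have h2 : (pairsU a {i}).card = 2 := by rw [P.card_pairsU, Finset.card_singleton]
        have hc := hex i
        have hpos : 0 < (Q ∩ pairsU a {i}).card :=
          Finset.card_pos.2 ⟨_, Finset.mem_inter.2 ⟨hh.1, P.mem_pairsU_self.2 (Finset.mem_singleton_self i)⟩⟩
        have hle2 := Finset.card_le_card (Finset.inter_subset_right (s₁ := Q) (s₂ := pairsU a {i}))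
        exact Finset.inter_eq_right.1 (Finset.eq_of_subset_of_card_le Finset.inter_subset_right (by omega))
    rw [Finset.card_sdiff_of_subset hIQ, P.card_pairsU, hQ] at hrest
    have hle4 := Finset.card_le_card hIQ
    rw [P.card_pairsU, hQ] at hle4
    exact Or.inl ⟨I, by omega, (Finset.eq_of_subset_of_card_le hIQ (by rw [P.card_pairsU, hQ]; omega)).symm⟩

/-- The image of the support of an element is the support of the conjugate. -/
theorem conj_quad {g h : Perm α} {Q : Finset α} (hQg : ∀ y, g y ≠ y ↔ y ∈ Q) :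
    ∀ y, (h * g * h⁻¹) y ≠ y ↔ y ∈ Q.image h := by
  intro y
  obtain ⟨z, rfl⟩ := h.surjective y
  rw [Finset.mem_image, Perm.mul_apply, Perm.mul_apply]
  simp only [Perm.inv_def, Equiv.symm_apply_apply, ne_eq, h.injective.eq_iff]
  exact ⟨fun hz => ⟨z, (hQg z).1 hz, rfl⟩, fun ⟨w, hw, e⟩ => (hQg z).2 (e ▸ hw)⟩

theorem image_quad (hno : ¬ ∃ t ∈ H, IsThreeCycle t) {h : Perm α} (hh : h ∈ H) {I : Finset (Fin k)}
    (hI : I.card = 2) :
    (∃ J : Finset (Fin k), J.card = 2 ∧ (pairsU a I).image h = pairsU a J) ∨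
      (k = 4 ∧ (pairsU a I).image h ⊆ pairsU a Finset.univ ∧
        ∀ i, ((pairsU a I).image h ∩ pairsU a {i}).card = 1) := by
  obtain ⟨i, j, hij, rfl⟩ := Finset.card_eq_two.1 hI
  exact P.quad_cases hno (mul_mem (mul_mem hh (P.mem i j hij)) (inv_mem hh))
    (by rw [Finset.card_image_of_injective _ h.injective, P.card_pairsU, hI])
    (P.conj_quad (P.dt_moved hij))

/-- **A pairing forces a 3-cycle.** -/
theorem exists_threeCycle (S : LayerSetup H L) : ∃ t ∈ H, IsThreeCycle t := by
  by_contra hno
  have hpair : ∀ {g : Perm α}, (∀ i, (pairsU a {i}).image g = pairsU a {i}) → g ∈ H → g ∈ kerSub H a :=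
    fun h1 h2 => ⟨h2, h1⟩
  have hmem : ∀ {l : Perm α}, l ∈ L → ∀ {t : Perm α} {Q : Finset α}, (∀ y, t y ≠ y ↔ y ∈ Q) →
      t * l = l * t → Q.image l = Q := by
    intro l _ t Q hQ hc
    refine Finset.eq_of_subset_of_card_le (Finset.image_subset_iff.2 fun y hy => ?_)
      (Finset.card_image_of_injective _ l.injective).ge
    rw [← hQ, show t (l y) = l (t y) from Equiv.congr_fun hc y, l.injective.ne_iff, hQ]
    exact hy
  have hfinal : (∀ l ∈ L, ∀ i, (pairsU a {i}).image l = pairsU a {i}) → False := fun h =>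
    S.not_comm fun x hx y hy => P.comm_of_fix_pairs (h x hx) (h y hy)
  rcases Nat.lt_or_ge 4 k with hk5 | hk4
  · -- at least five pairs
    have hperm : ∀ h ∈ H, ∀ i, ∃ j, (pairsU a {i}).image h = pairsU a {j} := fun h hh =>
      P.exists_pair_image fun I hI => (P.image_quad hno hh hI).resolve_right fun hc => by omega
    have hKn : ∀ h ∈ H, ∀ g ∈ kerSub H a, h * g * h⁻¹ ∈ kerSub H a := by
      intro h hh g hg
      refine ⟨mul_mem (mul_mem hh hg.1) (inv_mem hh), fun i => ?_⟩
      obtain ⟨j, hj⟩ := hperm _ (inv_mem hh) i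
      rw [Perm.coe_mul, Perm.coe_mul, ← Finset.image_image, ← Finset.image_image, hj, hg.2, ← hj,
        Finset.image_image, ← Perm.coe_mul, mul_inv_cancel, Perm.coe_one, Finset.image_id]
    have hKc := S.abelian_central (N := kerSub H a) (fun g hg => hg.1) hKn
      fun x hx y hy => P.comm_of_fix_pairs hx.2 hy.2
    refine hfinal fun l hl i => ?_
    have hU : ∀ I : Finset (Fin k), I.card = 2 → (pairsU a I).image l = pairsU a I := by
      intro I hI
      obtain ⟨p, q, hpq, rfl⟩ := Finset.card_eq_two.1 hI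
      exact hmem hl (P.dt_moved hpq) (hKc _ (hpair (P.dt_image_pair hpq) (P.mem p q hpq)) l hl)
    obtain ⟨j, hj⟩ := P.exists_pair_image (fun I hI => ⟨I, hI, hU I hI⟩) i
    obtain ⟨p, hp⟩ : ∃ p, p ≠ i := Fintype.exists_ne_of_one_lt_card (by simp; omega) i
    obtain ⟨p', hp', hpp'⟩ : ∃ p', p' ≠ i ∧ p' ≠ p := by
      obtain ⟨p', hp'⟩ := Finset.card_pos.1 (show 0 < (Finset.univ \ ({i, p} : Finset (Fin k))).card by
        rw [Finset.card_sdiff_of_subset (Finset.subset_univ _), Finset.card_pair hp.symm, Finset.card_univ,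
          Fintype.card_fin]
        omega)
      simp only [Finset.mem_sdiff, Finset.mem_insert, Finset.mem_singleton, not_or] at hp'
      exact ⟨p', hp'.2⟩
    have hsub : ∀ q : Fin k, q ≠ i → pairsU a {j} ⊆ pairsU a {i, q} := by
      intro q hq
      rw [← hj, ← hU _ (Finset.card_pair hq.symm)]
      refine Finset.image_subset_image fun y hy => ?_
      obtain ⟨i', hi', b, rfl⟩ := mem_pairsU.1 hy
      rw [Finset.mem_singleton] at hi'
      exact P.mem_pairsU_self.2 (by simp [hi'])
    have hj1 := P.mem_pairsU_self.1 (hsub p hp ((P.mem_pairsU_self (b := false)).2 (Finset.mem_singleton_self j)))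
    have hj2 := P.mem_pairsU_self.1 (hsub p' hp' ((P.mem_pairsU_self (b := false)).2 (Finset.mem_singleton_self j)))
    simp only [Finset.mem_insert, Finset.mem_singleton] at hj1 hj2
    rcases hj1 with rfl | rfl
    · exact hj
    · rcases hj2 with h | h
      exacts [absurd h hp, absurd h.symm hpp']
  · -- exactly four pairs
    have hk : k = 4 := le_antisymm hk4 P.four
    subst hk
    set t : Perm α := (swap (a 0 false) (a 0 true) * swap (a 1 false) (a 1 true)) *
      (swap (a 2 false) (a 2 true) * swap (a 3 false) (a 3 true)) with ht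
    have h01 : (0 : Fin 4) ≠ 1 := by decide
    have h23 : (2 : Fin 4) ≠ 3 := by decide
    have htH : t ∈ H := mul_mem (P.mem _ _ h01) (P.mem _ _ h23)
    have htap : ∀ p b, t (a p b) = a p (!b) := by
      intro p b
      rw [ht, Perm.mul_apply, P.dt_apply h23, P.dt_apply h01]
      fin_cases p <;> simp
    have hMinv : ∀ h ∈ H, ∀ y ∈ pairsU a Finset.univ, h y ∈ pairsU a Finset.univ := by
      intro h hh y hy
      obtain ⟨i, -, b, rfl⟩ := mem_pairsU.1 hy
      obtain ⟨q, hq⟩ := Fintype.exists_ne_of_one_lt_card (show 1 < Fintype.card (Fin 4) by simp) i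
      have hy' : h (a i b) ∈ (pairsU a {i, q}).image h :=
        Finset.mem_image_of_mem _ (P.mem_pairsU_self.2 (by simp))
      rcases P.image_quad hno hh (Finset.card_pair hq.symm) with ⟨J, -, hJ⟩ | ⟨-, hsub, -⟩
      · rw [hJ] at hy'
        obtain ⟨j, -, c, e⟩ := mem_pairsU.1 hy'
        exact mem_pairsU.2 ⟨j, Finset.mem_univ j, c, e⟩
      · exact hsub hy'
    have htout : ∀ y, y ∉ pairsU a Finset.univ → t y = y := fun y hy =>
      P.fixed_outside (hMinv t htH) hy
    -- `t` maps the relevant 4-sets to themselves or their complements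
    have htQ : ∀ h ∈ H, ∀ I : Finset (Fin 4), I.card = 2 →
        ((pairsU a I).image h).image t = (pairsU a I).image h ∨
        ((pairsU a I).image h).image t = pairsU a Finset.univ \ (pairsU a I).image h := by
      intro h hh I hI
      set Q := (pairsU a I).image h
      rcases P.image_quad hno hh hI with ⟨J, -, hJ⟩ | ⟨-, hsub, h1⟩
      · left
        rw [show Q = pairsU a J from hJ]
        refine Finset.eq_of_subset_of_card_le (Finset.image_subset_iff.2 fun y hy => ?_)
          (Finset.card_image_of_injective _ t.injective).ge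
        obtain ⟨j, hj, b, rfl⟩ := mem_pairsU.1 hy
        rw [htap]
        exact P.mem_pairsU_self.2 hj
      · right
        refine Finset.eq_of_subset_of_card_le (Finset.image_subset_iff.2 fun y hy => ?_) ?_
        · refine Finset.mem_sdiff.2 ⟨hMinv t htH y (hsub hy), fun hty => ?_⟩
          obtain ⟨j, -, b, rfl⟩ := mem_pairsU.1 (hsub hy)
          rw [htap] at hty
          obtain ⟨z, hz⟩ := Finset.card_eq_one.1 (h1 j)
          have e1 : a j b ∈ Q ∩ pairsU a {j} :=
            Finset.mem_inter.2 ⟨hy, P.mem_pairsU_self.2 (Finset.mem_singleton_self j)⟩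
          have e2 : a j (!b) ∈ Q ∩ pairsU a {j} :=
            Finset.mem_inter.2 ⟨hty, P.mem_pairsU_self.2 (Finset.mem_singleton_self j)⟩
          rw [hz, Finset.mem_singleton] at e1 e2
          have := (P.inj _ _ _ _ (e1.trans e2.symm)).2
          cases b <;> simp at this
        · rw [Finset.card_image_of_injective _ t.injective, Finset.card_sdiff_of_subset hsub, P.card_pairsU,
            Finset.card_image_of_injective _ h.injective, P.card_pairsU, hI]
          simp
    have hcomm : ∀ h ∈ H, t * (h * t * h⁻¹) = (h * t * h⁻¹) * t := by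
      intro h hh
      set u := h * t * h⁻¹ with hu
      have hMh : (pairsU a Finset.univ).image h = pairsU a Finset.univ :=
        Finset.eq_of_subset_of_card_le (Finset.image_subset_iff.2 (hMinv h hh))
          (Finset.card_image_of_injective _ h.injective).ge
      have hcompl : ∀ I : Finset (Fin 4), pairsU a Finset.univ \ pairsU a I = pairsU a Iᶜ := by
        intro I
        ext y
        rw [Finset.mem_sdiff]
        constructor
        · rintro ⟨hy, hyI⟩
          obtain ⟨j, -, b, rfl⟩ := mem_pairsU.1 hy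
          exact P.mem_pairsU_self.2 (Finset.mem_compl.2 fun hj => hyI (P.mem_pairsU_self.2 hj))
        · intro hy
          obtain ⟨j, hj, b, rfl⟩ := mem_pairsU.1 hy
          exact ⟨P.mem_pairsU_self.2 (Finset.mem_univ j),
            fun hI => Finset.mem_compl.1 hj (P.mem_pairsU_self.1 hI)⟩
      have hperm := fun i => P.exists_pair_image (g := u) (fun I hI => ?_) i
      · refine Perm.ext fun y => ?_
        show t (u y) = u (t y)
        by_cases hy : y ∈ pairsU a Finset.univ
        · obtain ⟨i, -, b, rfl⟩ := mem_pairsU.1 hy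
          obtain ⟨j, hj⟩ := hperm i
          obtain ⟨c, hc, hc'⟩ := P.exists_flip hj b
          rw [hc, htap, htap, hc']
        · have huy : u y = y := P.fixed_outside (hMinv u (mul_mem (mul_mem hh htH) (inv_mem hh))) hy
          rw [huy, htout y hy, huy]
      · have himg : (pairsU a I).image u = (((pairsU a I).image ⇑h⁻¹).image t).image h := by
          rw [Finset.image_image, Finset.image_image, hu, Perm.coe_mul, Perm.coe_mul]
        rcases htQ _ (inv_mem hh) I hI with e | e
        · refine ⟨I, hI, ?_⟩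
          rw [himg, e, Finset.image_image, ← Perm.coe_mul, mul_inv_cancel, Perm.coe_one, Finset.image_id]
        · refine ⟨Iᶜ, by rw [Finset.card_compl, Fintype.card_fin, hI], ?_⟩
          rw [himg, e, Finset.image_sdiff _ _ h.injective, hMh, Finset.image_image, ← Perm.coe_mul,
            mul_inv_cancel, Perm.coe_one, Finset.image_id, hcompl]
    set N := Subgroup.closure {u : Perm α | ∃ h ∈ H, u = h * t * h⁻¹}
    have hNH : N ≤ H := (Subgroup.closure_le _).2 fun u ⟨h, hh, e⟩ =>
      e ▸ mul_mem (mul_mem hh htH) (inv_mem hh)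
    have hNn : ∀ h ∈ H, ∀ n ∈ N, h * n * h⁻¹ ∈ N := by
      intro h hh n hn
      have : N ≤ N.comap (MulAut.conj h).toMonoidHom := (Subgroup.closure_le _).2 fun u ⟨h', hh', e⟩ =>
        Subgroup.subset_closure ⟨h * h', mul_mem hh hh', by subst e; simp [mul_assoc]⟩
      exact this hn
    have hNab : ∀ x ∈ N, ∀ y ∈ N, x * y = y * x := by
      have : IsMulCommutative N := Subgroup.isMulCommutative_closure (by
        rintro u ⟨h, hh, rfl⟩ v ⟨h', hh', rfl⟩
        have e := congrArg (fun z => h * z * h⁻¹) (hcomm (h⁻¹ * h') (mul_mem (inv_mem hh) hh'))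
        simpa [mul_assoc] using e)
      intro x hx y hy
      exact congrArg Subtype.val (this.is_comm.comm ⟨x, hx⟩ ⟨y, hy⟩)
    have htN : t ∈ N := Subgroup.subset_closure ⟨1, one_mem _, by simp⟩
    have hLt := S.abelian_central hNH hNn hNab t htN
    have hperm : ∀ l ∈ L, ∀ i, ∃ j, (pairsU a {i}).image l = pairsU a {j} := by
      intro l hl i
      obtain ⟨j, -, c, hc⟩ := mem_pairsU.1 (hMinv l (S.le hl) _ ((P.mem_pairsU_self (b := false)).2 (Finset.mem_univ i)))
      refine ⟨j, Finset.eq_of_subset_of_card_le (Finset.image_subset_iff.2 fun y hy => ?_) ?_⟩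
      · obtain ⟨i', hi', b, rfl⟩ := mem_pairsU.1 hy
        rw [Finset.mem_singleton] at hi'
        subst hi'
        cases b
        · rw [← hc]; exact P.mem_pairsU_self.2 (Finset.mem_singleton_self j)
        · have : l (a i' true) = t (l (a i' false)) := by
            rw [show t (l (a i' false)) = l (t (a i' false)) from Equiv.congr_fun (hLt l hl) _, htap]
            rfl
          rw [this, ← hc, htap]
          exact P.mem_pairsU_self.2 (Finset.mem_singleton_self j)
      · rw [Finset.card_image_of_injective _ l.injective, P.card_pairsU, P.card_pairsU]; simp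
    choose σ hσ using hperm
    have huniq : ∀ {i j : Fin 4}, pairsU a {i} = pairsU a {j} → i = j := fun {i j} h => by
      simpa using P.mem_pairsU_self.1 (h ▸ (P.mem_pairsU_self (b := false)).2 (Finset.mem_singleton_self i) :
        a i false ∈ pairsU a {j})
    have hinj : ∀ (l : Perm α) (hl : l ∈ L), Function.Injective (σ l hl) := fun l hl i i' h => by
      have := (hσ l hl i).trans ((congrArg (fun z => pairsU a {z}) h).trans (hσ l hl i').symm)
      exact huniq (Finset.image_injective l.injective this)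
    let φ : L →* Perm (Fin 4) := MonoidHom.mk'
      (fun l => Equiv.ofBijective (σ l.1 l.2) (Finite.injective_iff_bijective.1 (hinj l.1 l.2)))
      fun l m => Equiv.ext fun i => huniq (by
        simp only [Perm.mul_apply, Equiv.ofBijective_apply]
        rw [← hσ l.1 l.2, ← hσ m.1 m.2, Finset.image_image, ← Perm.coe_mul]
        exact (hσ (l * m).1 (l * m).2 i).symm)
    refine hfinal fun l hl i => ?_
    have h1 := S.hom_trivial (CfsgLib.InvolChar.ThreeInvolutions.isSolvable_perm (by simp)) φ ⟨l, hl⟩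
    have h2 : σ l hl i = i := Equiv.congr_fun h1 i
    rw [hσ l hl i, h2]

end Pairing

end CfsgLib.LocalEven.SymOver
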