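/-
Symmetric groups: overgroups of Sylow 2- and 3-subgroups with quasisimple F*.
-/
import Cfsg.Agent.Lib.LocalEven.SymOvergroups.Pairs
import Mathlib.GroupTheory.Sylow

set_option autoImplicit false

open Equiv Equiv.Perm Cfsg

namespace CfsgLib.LocalEven.SymOver

open CfsgLib.Known.AltAut

/-- A set of commuting elements of order dividing `p` is conjugate into a Sylow `p`-subgroup. -/
theorem exists_conj_into_sylow {G : Type*} [Group G] [Finite G] {p : ℕ} [Fact p.Prime] (P : Sylow p G)
    (s : Set G) (hc : ∀ x ∈ s, ∀ y ∈ s, x * y = y * x) (hp : ∀ x ∈ s, x ^ p = 1) :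
    ∃ g : G, ∀ x ∈ s, g * x * g⁻¹ ∈ (P : Subgroup G) := by
  haveI : IsMulCommutative (Subgroup.closure s) := Subgroup.isMulCommutative_closure hc
  have key : ∀ z ∈ Subgroup.closure s, z ^ p = 1 := by
    intro z hz
    induction hz using Subgroup.closure_induction with
    | mem x hx => exact hp x hx
    | one => exact one_pow p
    | mul x y hx hy hx' hy' =>
      have : Commute x y := congrArg Subtype.val
        (IsMulCommutative.is_comm.comm (⟨x, hx⟩ : Subgroup.closure s) ⟨y, hy⟩)
      rw [this.mul_pow, hx', hy', one_mul]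
    | inv x _ hx' => rw [inv_pow, hx', inv_one]
  have hP : IsPGroup p (Subgroup.closure s) := fun z =>
    ⟨1, Subtype.ext (by rw [SubmonoidClass.coe_pow, pow_one]; exact key _ z.2)⟩
  obtain ⟨Q, hQ⟩ := hP.exists_le_sylow
  obtain ⟨g, rfl⟩ := MulAction.exists_smul_eq G P Q
  refine ⟨g⁻¹, fun x hx => ?_⟩
  have := hQ (Subgroup.subset_closure hx)
  rw [Sylow.coe_subgroup_smul, Subgroup.mem_pointwise_smul_iff_inv_smul_mem] at this
  simpa [MulAut.smul_def] using this

theorem exists_iso {n : ℕ} {H : Subgroup (Perm (Fin n))} {K : Finset (Fin n)}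
    (hL : (generalizedFittingSubgroup H).map H.subtype = altOn K) :
    Nonempty (generalizedFittingSubgroup H ≃* alternatingGroup (Fin K.card)) :=
  ⟨((generalizedFittingSubgroup H).equivMapOfInjective H.subtype H.subtype_injective).trans
    ((MulEquiv.subgroupCongr hL).trans ((altOnEquiv K).symm.trans (Equiv.altCongrHom K.equivFin)))⟩

/-- Overgroups of a Sylow 3-subgroup. -/
theorem main_three (n : ℕ) (hn : 5 ≤ n) (H : Subgroup (Perm (Fin n)))
    (hF : IsQuasisimple (generalizedFittingSubgroup H)) (P : Sylow 3 (Perm (Fin n)))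
    (hP : (P : Subgroup (Perm (Fin n))) ≤ H) :
    ∃ m : ℕ, (m = n - 2 ∨ m = n - 1 ∨ m = n) ∧
      Nonempty (generalizedFittingSubgroup H ≃* alternatingGroup (Fin m)) := by
  set L := (generalizedFittingSubgroup H).map H.subtype with hLdef
  have S : LayerSetup H L := layerSetup_of_quasisimple H hF
  let d : Fin (n / 3) → Fin 3 → Fin n := fun i r => ⟨3 * i + r, by omega⟩
  have hd : ∀ i j r s, d i r = d j s → i = j ∧ r = s := by
    intro i j r s h
    simp only [d, Fin.mk.injEq] at h
    exact ⟨Fin.ext (by omega), Fin.ext (by omega)⟩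
  let c : Fin (n / 3) → Perm (Fin n) := fun i => cyc (d i 0) (d i 1) (d i 2)
  have hne : ∀ i r s, r ≠ s → d i r ≠ d i s := fun i r s h e => h (hd i i r s e).2
  have hc3 : ∀ i, (c i).IsThreeCycle := fun i =>
    isThreeCycle_cyc (hne i 0 1 (by decide)) (hne i 0 2 (by decide)) (hne i 1 2 (by decide))
  obtain ⟨g, hg⟩ := exists_conj_into_sylow P (Set.range c) (by
      rintro _ ⟨i, rfl⟩ _ ⟨j, rfl⟩
      by_cases hij : i = j
      · rw [hij]
      refine (Perm.Disjoint.commute fun x => ?_).eq
      by_cases hx : ∃ r, x = d i r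
      · obtain ⟨r, rfl⟩ := hx
        right
        exact cyc_other (fun e => hij (hd _ _ _ _ e).1) (fun e => hij (hd _ _ _ _ e).1)
          (fun e => hij (hd _ _ _ _ e).1)
      · push Not at hx
        exact Or.inl (cyc_other (hx 0) (hx 1) (hx 2)))
    (by rintro _ ⟨i, rfl⟩; rw [← (hc3 i).orderOf]; exact pow_orderOf_eq_one _)
  have hmem : ∀ i, cyc (g (d i 0)) (g (d i 1)) (g (d i 2)) ∈ H := fun i => by
    rw [← cyc_conj]; exact hP (hg _ ⟨i, rfl⟩)
  have hne' : ∀ i r s, r ≠ s → g (d i r) ≠ g (d i s) := fun i r s h e => hne i r s h (g.injective e)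
  obtain ⟨K, hK5, hL, hinv, hmeet⟩ := exists_altOn S
    ⟨_, hmem ⟨0, by omega⟩,
      isThreeCycle_cyc (hne' _ 0 1 (by decide)) (hne' _ 0 2 (by decide)) (hne' _ 1 2 (by decide))⟩
  have hcov : ∀ i r, g (d i r) ∈ K := by
    intro i
    have h01 := hne' i 0 1 (by decide)
    have h02 := hne' i 0 2 (by decide)
    have h12 := hne' i 1 2 (by decide)
    have hnext : ∀ r, g (d i r) ∈ K → ∀ s, g (d i s) ∈ K := by
      have e0 := hinv _ (hmem i)
      intro r hr s
      have a0 : g (d i 0) ∈ K → g (d i 1) ∈ K := fun h => by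
        have := e0 _ h; rwa [cyc_a h01 h02] at this
      have a1 : g (d i 1) ∈ K → g (d i 2) ∈ K := fun h => by
        have := e0 _ h; rwa [cyc_b h02 h12] at this
      have a2 : g (d i 2) ∈ K → g (d i 0) ∈ K := fun h => by
        have := e0 _ h; rwa [cyc_c] at this
      fin_cases r <;> fin_cases s <;> simp_all
    obtain ⟨r, hr⟩ : ∃ r, g (d i r) ∈ K := by
      by_contra hno
      push Not at hno
      have := hmeet _ (hmem i) fun x hx =>
        cyc_other (fun e : x = g (d i 0) => hno 0 (e ▸ hx)) (fun e : x = g (d i 1) => hno 1 (e ▸ hx))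
          (fun e : x = g (d i 2) => hno 2 (e ▸ hx))
      exact (isThreeCycle_cyc h01 h02 h12).isCycle.ne_one this
    exact hnext r hr
  have hcard : 3 * (n / 3) ≤ K.card := by
    have := Finset.card_le_card_of_injOn (s := (Finset.univ : Finset (Fin (n / 3) × Fin 3)))
      (fun p => g (d p.1 p.2)) (fun p _ => hcov p.1 p.2)
      (fun p _ q _ e => Prod.ext (hd _ _ _ _ (g.injective e)).1 (hd _ _ _ _ (g.injective e)).2)
    simpa [mul_comm] using this
  have hKn := K.card_le_univ
  rw [Fintype.card_fin] at hKn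
  exact ⟨K.card, by omega, exists_iso hL⟩

/-- Overgroups of a Sylow 2-subgroup of the alternating group. -/
theorem main_two (n : ℕ) (hn : 8 ≤ n) (H : Subgroup (Perm (Fin n)))
    (hF : IsQuasisimple (generalizedFittingSubgroup H)) (P : Sylow 2 (alternatingGroup (Fin n)))
    (hP : (P : Subgroup (alternatingGroup (Fin n))).map (alternatingGroup (Fin n)).subtype ≤ H) :
    ∃ m : ℕ, (m = n - 3 ∨ m = n - 2 ∨ m = n - 1 ∨ m = n) ∧
      Nonempty (generalizedFittingSubgroup H ≃* alternatingGroup (Fin m)) := by
  set L := (generalizedFittingSubgroup H).map H.subtype with hLdef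
  have S : LayerSetup H L := layerSetup_of_quasisimple H hF
  have hconj : ∀ s : Set (Perm (Fin n)), (∀ x ∈ s, sign x = 1) → (∀ x ∈ s, ∀ y ∈ s, x * y = y * x) →
      (∀ x ∈ s, x * x = 1) → ∃ g : Perm (Fin n), ∀ x ∈ s, g * x * g⁻¹ ∈ H := by
    intro s hs hc h2
    obtain ⟨g, hg⟩ := exists_conj_into_sylow P
      ((alternatingGroup (Fin n)).subtype ⁻¹' s)
      (fun x hx y hy => Subtype.ext (hc _ hx _ hy))
      (fun x hx => Subtype.ext (by rw [SubmonoidClass.coe_pow, pow_two]; exact h2 _ hx))
    exact ⟨g, fun x hx => hP ⟨_, hg ⟨x, mem_alternatingGroup.2 (hs x hx)⟩ hx, rfl⟩⟩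
  -- the pairing
  let p : Fin (n / 2) → Bool → Fin n := fun i b => ⟨2 * i + b.toNat, by cases b <;> simp <;> omega⟩
  have hp : ∀ i j b c, p i b = p j c → i = j ∧ b = c := by
    intro i j b c h
    simp only [p, Fin.mk.injEq] at h
    cases b <;> cases c <;> simp at h ⊢ <;>
      first | exact Fin.ext (by omega) | omega
  let f : Fin (n / 2) → Perm (Fin n) := fun i => swap (p i false) (p i true)
  have hf : ∀ i j, f i * f j = f j * f i := by
    intro i j
    by_cases hij : i = j
    · rw [hij]
    refine (Perm.Disjoint.commute fun x => ?_).eq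
    by_cases hx : ∃ b, x = p i b
    · obtain ⟨b, rfl⟩ := hx
      exact Or.inr (swap_apply_of_ne_of_ne (fun e => hij (hp _ _ _ _ e).1) (fun e => hij (hp _ _ _ _ e).1))
    · push Not at hx
      exact Or.inl (swap_apply_of_ne_of_ne (hx _) (hx _))
  have hsgn : ∀ i, sign (f i) = -1 := fun i => sign_swap fun e => by simpa using (hp _ _ _ _ e).2
  obtain ⟨g, hg⟩ := hconj {x | ∃ i j, i ≠ j ∧ x = f i * f j}
    (by rintro _ ⟨i, j, -, rfl⟩; rw [map_mul, hsgn, hsgn]; rfl)
    (by
      rintro _ ⟨i, j, -, rfl⟩ _ ⟨i', j', -, rfl⟩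
      exact ((Commute.mul_right (hf i i') (hf i j')).mul_left (Commute.mul_right (hf j i') (hf j j'))).eq)
    (by
      rintro _ ⟨i, j, -, rfl⟩
      rw [mul_assoc, ← mul_assoc (f j), hf j i, mul_assoc, swap_mul_self, mul_one, swap_mul_self])
  have hP : Pairing H (n / 2) (fun i b => g (p i b)) := by
    refine ⟨by omega, fun i j b c h => hp i j b c (g.injective h), by rw [Fintype.card_fin]; omega, ?_⟩
    intro i j hij
    have := hg _ ⟨i, j, hij, rfl⟩
    rw [show g * (f i * f j) * g⁻¹ = (g * f i * g⁻¹) * (g * f j * g⁻¹) by group] at this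
    rwa [← swap_apply_apply, ← swap_apply_apply] at this
  obtain ⟨K, hK5, hL, hinv, hmeet⟩ := exists_altOn S (hP.exists_threeCycle S)
  -- the blocks of four points
  let d : Fin (n / 4) → Fin 4 → Fin n := fun i r => ⟨4 * i + r, by omega⟩
  have hd : ∀ i j r s, d i r = d j s → i = j ∧ r = s := by
    intro i j r s h
    simp only [d, Fin.mk.injEq] at h
    exact ⟨Fin.ext (by omega), Fin.ext (by omega)⟩
  have hne : ∀ i r s, r ≠ s → d i r ≠ d i s := fun i r s h e => h (hd i i r s e).2
  let u : Fin (n / 4) → Perm (Fin n) := fun i => swap (d i 0) (d i 1) * swap (d i 2) (d i 3)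
  let v : Fin (n / 4) → Perm (Fin n) := fun i => swap (d i 0) (d i 2) * swap (d i 1) (d i 3)
  let πu : Fin 4 → Fin 4 := ![1, 0, 3, 2]
  let πv : Fin 4 → Fin 4 := ![2, 3, 0, 1]
  have hu : ∀ i r, u i (d i r) = d i (πu r) := by
    intro i r
    fin_cases r <;>
      simp [u, πu, swap_apply_of_ne_of_ne, hne i 0 2 (by decide), hne i 0 3 (by decide),
        hne i 1 2 (by decide), hne i 1 3 (by decide), hne i 2 0 (by decide), hne i 2 1 (by decide),
        hne i 3 0 (by decide), hne i 3 1 (by decide)]
  have hv : ∀ i r, v i (d i r) = d i (πv r) := by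
    intro i r
    fin_cases r <;>
      simp [v, πv, swap_apply_of_ne_of_ne, hne i 0 1 (by decide), hne i 0 3 (by decide),
        hne i 1 2 (by decide), hne i 2 3 (by decide), hne i 2 1 (by decide), hne i 1 0 (by decide),
        hne i 3 0 (by decide), hne i 3 2 (by decide)]
  have hout : ∀ i x, (∀ r, x ≠ d i r) → u i x = x ∧ v i x = x := fun i x hx =>
    ⟨by simp [u, swap_apply_of_ne_of_ne, hx], by simp [v, swap_apply_of_ne_of_ne, hx]⟩
  obtain ⟨g', hg'⟩ := hconj {x | ∃ i, x = u i ∨ x = v i}
    (by
      rintro _ ⟨i, rfl | rfl⟩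
      · rw [map_mul, sign_swap (hne i 0 1 (by decide)), sign_swap (hne i 2 3 (by decide))]; rfl
      · rw [map_mul, sign_swap (hne i 0 2 (by decide)), sign_swap (hne i 1 3 (by decide))]; rfl)
    (by
      have key : ∀ i (x y : Perm (Fin n)), (x = u i ∨ x = v i) → ∀ j, (y = u j ∨ y = v j) → x * y = y * x := by
        intro i x y hx j hy
        refine Perm.ext fun z => ?_
        rw [Perm.mul_apply, Perm.mul_apply]
        by_cases hz : ∃ r, z = d i r
        · obtain ⟨r, rfl⟩ := hz
          by_cases hij : j = i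
          · subst hij
            rcases hx with rfl | rfl <;> rcases hy with rfl | rfl <;>
              simp only [hu, hv] <;> fin_cases r <;> rfl
          · have h1 : ∀ r, y (d i r) = d i r := fun r => by
              rcases hy with rfl | rfl
              exacts [(hout j _ fun s e => hij (hd _ _ _ _ e).1.symm).1,
                (hout j _ fun s e => hij (hd _ _ _ _ e).1.symm).2]
            rcases hx with rfl | rfl
            · rw [h1, hu, h1]
            · rw [h1, hv, h1]
        · push Not at hz
          have hxz : x z = z := by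
            rcases hx with rfl | rfl
            exacts [(hout i z hz).1, (hout i z hz).2]
          have hxy : x (y z) = y z := by
            have : ∀ r, y z ≠ d i r := by
              intro r e
              by_cases hzj : ∃ s, z = d j s
              · obtain ⟨s, rfl⟩ := hzj
                rcases hy with rfl | rfl
                · rw [hu] at e
                  have := (hd _ _ _ _ e).1; subst this
                  exact hz s rfl
                · rw [hv] at e
                  have := (hd _ _ _ _ e).1; subst this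
                  exact hz s rfl
              · push Not at hzj
                rcases hy with rfl | rfl
                · rw [(hout j z hzj).1] at e; exact hz r e
                · rw [(hout j z hzj).2] at e; exact hz r e
            rcases hx with rfl | rfl
            exacts [(hout i _ this).1, (hout i _ this).2]
          rw [hxz, hxy]
      rintro x ⟨i, hx⟩ y ⟨j, hy⟩
      exact key i x y hx j hy)
    (by
      rintro _ ⟨i, hx⟩
      rename_i x
      refine Perm.ext fun z => ?_
      rw [Perm.mul_apply, Perm.one_apply]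
      by_cases hz : ∃ r, z = d i r
      · obtain ⟨r, rfl⟩ := hz
        rcases hx with rfl | rfl <;> simp only [hu, hv] <;> fin_cases r <;> rfl
      · push Not at hz
        rcases hx with rfl | rfl
        · rw [(hout i z hz).1, (hout i z hz).1]
        · rw [(hout i z hz).2, (hout i z hz).2])
  have hcov : ∀ i r, g' (d i r) ∈ K := by
    intro i
    have hu' : ∀ r, (g' * u i * g'⁻¹) (g' (d i r)) = g' (d i (πu r)) := fun r => by simp [hu]
    have hv' : ∀ r, (g' * v i * g'⁻¹) (g' (d i r)) = g' (d i (πv r)) := fun r => by simp [hv]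
    have hUH := hg' _ ⟨i, Or.inl rfl⟩
    have hVH := hg' _ ⟨i, Or.inr rfl⟩
    obtain ⟨r, hr⟩ : ∃ r, g' (d i r) ∈ K := by
      by_contra hno
      push Not at hno
      have := Equiv.congr_fun (hmeet _ hUH fun x hx => by
        have hne' : ∀ r, g'⁻¹ x ≠ d i r := fun r e => hno r (by rw [← e]; simpa using hx)
        rw [Perm.mul_apply, Perm.mul_apply, (hout i _ hne').1]
        simp) (g' (d i 0))
      rw [hu', Perm.one_apply] at this
      exact hne i 1 0 (by decide) (g'.injective this)
    have a1 : ∀ r, g' (d i r) ∈ K → g' (d i (πu r)) ∈ K := fun r h => by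
      have := hinv _ hUH _ h
      rwa [hu'] at this
    have a2 : ∀ r, g' (d i r) ∈ K → g' (d i (πv r)) ∈ K := fun r h => by
      have := hinv _ hVH _ h
      rwa [hv'] at this
    intro s
    have hs : s = r ∨ s = πu r ∨ s = πv r ∨ s = πv (πu r) := by
      fin_cases r <;> fin_cases s <;> decide
    rcases hs with rfl | rfl | rfl | rfl
    exacts [hr, a1 r hr, a2 r hr, a2 _ (a1 r hr)]
  have hcard : 4 * (n / 4) ≤ K.card := by
    have := Finset.card_le_card_of_injOn (s := (Finset.univ : Finset (Fin (n / 4) × Fin 4)))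
      (fun p => g' (d p.1 p.2)) (fun p _ => hcov p.1 p.2)
      (fun p _ q _ e => Prod.ext (hd _ _ _ _ (g'.injective e)).1 (hd _ _ _ _ (g'.injective e)).2)
    simpa [mul_comm] using this
  have hKn := K.card_le_univ
  rw [Fintype.card_fin] at hKn
  exact ⟨K.card, by omega, exists_iso hL⟩

end CfsgLib.LocalEven.SymOver
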